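import Cfsg.Prelude.Def_LieExceptional

/-!
Basic theory of (B,N)-pairs: Bruhat decomposition, length function on `N / (B ⊓ N)`,
exchange condition, standard parabolic subgroups.

Congruence modulo `B ⊓ N` of two elements `a, b` of `N` is written `a⁻¹ * b ∈ P.B`.
-/

set_option autoImplicit false

namespace Cfsg.Agent.BN

open Cfsg

variable {G : Type*} [Group G] (P : Cfsg.BNPair G)

/-- The double coset `B n B`. -/
abbrev dc (n : G) : Set G := DoubleCoset.doubleCoset n (P.B : Set G) P.B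

variable {P}

theorem mem_dc {x n : G} : x ∈ dc P n ↔ ∃ a ∈ P.B, ∃ b ∈ P.B, x = a * n * b := by
  simp only [dc, DoubleCoset.mem_doubleCoset, SetLike.mem_coe]

theorem self_mem_dc (n : G) : n ∈ dc P n := DoubleCoset.mem_doubleCoset_self P.B P.B n

theorem dc_eq_of_mem {x n : G} (h : x ∈ dc P n) : dc P x = dc P n :=
  DoubleCoset.doubleCoset_eq_of_mem h

theorem dc_symm {x n : G} (h : x ∈ dc P n) : n ∈ dc P x := by
  rw [dc_eq_of_mem h]; exact self_mem_dc n

theorem mul_mem_dc {x n a : G} (h : x ∈ dc P n) (ha : a ∈ P.B) : a * x ∈ dc P n := by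
  obtain ⟨c, hc, d, hd, rfl⟩ := mem_dc.1 h
  exact mem_dc.2 ⟨a * c, mul_mem ha hc, d, hd, by group⟩

theorem dc_mul_mem {x n a : G} (h : x ∈ dc P n) (ha : a ∈ P.B) : x * a ∈ dc P n := by
  obtain ⟨c, hc, d, hd, rfl⟩ := mem_dc.1 h
  exact mem_dc.2 ⟨c, hc, d * a, mul_mem hd ha, by group⟩

theorem inv_mem_dc {x n : G} (h : x ∈ dc P n) : x⁻¹ ∈ dc P n⁻¹ := by
  obtain ⟨c, hc, d, hd, rfl⟩ := mem_dc.1 h
  exact mem_dc.2 ⟨d⁻¹, inv_mem hd, c⁻¹, inv_mem hc, by group⟩

theorem mem_of_mem_dc_of_mem {x n : G} {H : Subgroup G} (hB : P.B ≤ H) (h : x ∈ dc P n)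
    (hn : n ∈ H) : x ∈ H := by
  obtain ⟨c, hc, d, hd, rfl⟩ := mem_dc.1 h
  exact mul_mem (mul_mem (hB hc) hn) (hB hd)

theorem mem_of_mem_dc_of_mem' {x n : G} {H : Subgroup G} (hB : P.B ≤ H) (h : x ∈ dc P n)
    (hx : x ∈ H) : n ∈ H :=
  mem_of_mem_dc_of_mem hB (dc_symm h) hx

theorem dc_eq_of_eqv {a b : G} (h : a⁻¹ * b ∈ P.B) : dc P b = dc P a :=
  dc_eq_of_mem (mem_dc.2 ⟨1, one_mem _, a⁻¹ * b, h, by group⟩)

/-! ### Congruence modulo `B ⊓ N` -/

theorem conj_mem' {n t : G} (hn : n ∈ P.N) (ht : t ∈ P.B) (htN : t ∈ P.N) :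
    n⁻¹ * t * n ∈ P.B := by
  have := P.conj_mem n⁻¹ (inv_mem hn) t ⟨ht, htN⟩
  rwa [inv_inv] at this

theorem eqv_trans {a b c : G} (h1 : a⁻¹ * b ∈ P.B) (h2 : b⁻¹ * c ∈ P.B) : a⁻¹ * c ∈ P.B := by
  have := mul_mem h1 h2
  rwa [mul_assoc, mul_inv_cancel_left] at this

theorem eqv_symm {a b : G} (h : a⁻¹ * b ∈ P.B) : b⁻¹ * a ∈ P.B := by
  have := inv_mem h
  rwa [mul_inv_rev, inv_inv] at this

theorem eqv_mul_left {a b : G} (c : G) (h : a⁻¹ * b ∈ P.B) : (c * a)⁻¹ * (c * b) ∈ P.B := by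
  rwa [mul_inv_rev, mul_assoc, inv_mul_cancel_left]

theorem eqv_mul_right {a b m : G} (ha : a ∈ P.N) (hb : b ∈ P.N) (hm : m ∈ P.N)
    (h : a⁻¹ * b ∈ P.B) : (a * m)⁻¹ * (b * m) ∈ P.B := by
  have := conj_mem' hm h (mul_mem (inv_mem ha) hb)
  simpa [mul_assoc] using this

theorem eqv_sq_mul {s n : G} (hs : s ∈ P.S) (hn : n ∈ P.N) :
    n⁻¹ * (s * (s * n)) ∈ P.B := by
  have := conj_mem' hn (P.sq_mem s hs) (mul_mem (P.subset hs) (P.subset hs))
  simpa [mul_assoc] using this

theorem eqv_inv_mul {s n : G} (hs : s ∈ P.S) (hn : n ∈ P.N) :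
    (s * n)⁻¹ * (s⁻¹ * n) ∈ P.B := by
  have := inv_mem (conj_mem' hn (P.sq_mem s hs) (mul_mem (P.subset hs) (P.subset hs)))
  simpa [mul_assoc] using this

theorem eqv_mul_sq (m : G) {s : G} (hs : s ∈ P.S) : m⁻¹ * (m * s * s) ∈ P.B := by
  have := P.sq_mem s hs
  simpa [mul_assoc] using this

theorem not_mem_B {s : G} (hs : s ∈ P.S) : s ∉ P.B := by
  intro hsB
  apply P.conj_ne s hs
  ext x
  simp only [Set.mem_image, SetLike.mem_coe]
  constructor
  · rintro ⟨b, hb, rfl⟩
    exact mul_mem (mul_mem hsB hb) hsB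
  · intro hx
    exact ⟨s⁻¹ * x * s⁻¹, mul_mem (mul_mem (inv_mem hsB) hx) (inv_mem hsB), by group⟩

theorem exists_conj_not_mem {s : G} (hs : s ∈ P.S) : ∃ b ∈ P.B, s * b * s ∉ P.B := by
  by_contra hcon
  simp only [not_exists, not_and, not_not] at hcon
  apply P.conj_ne s hs
  ext x
  simp only [Set.mem_image, SetLike.mem_coe]
  constructor
  · rintro ⟨b, hb, rfl⟩
    exact hcon b hb
  · intro hx
    refine ⟨(s * s)⁻¹ * (s * x * s) * (s * s)⁻¹, ?_, by group⟩
    exact mul_mem (mul_mem (inv_mem (P.sq_mem s hs)) (hcon x hx)) (inv_mem (P.sq_mem s hs))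

/-! ### Products of double cosets with a generator -/

theorem mul_step {s n x : G} (hs : s ∈ P.S) (hn : n ∈ P.N) (hx : x ∈ dc P n) :
    s * x ∈ dc P (s * n) ∨ s * x ∈ dc P n := by
  obtain ⟨a, ha, b, hb, rfl⟩ := mem_dc.1 hx
  have e : s * (a * n * b) = (s * a * n) * b := by group
  rw [e]
  rcases P.mul_mem_union s hs n hn a ha with h | h
  · exact .inl (dc_mul_mem h hb)
  · exact .inr (dc_mul_mem h hb)

theorem inv_mul_step {s n x : G} (hs : s ∈ P.S) (hn : n ∈ P.N) (hx : x ∈ dc P n) :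
    s⁻¹ * x ∈ dc P (s * n) ∨ s⁻¹ * x ∈ dc P n := by
  have := mul_step hs hn (mul_mem_dc hx (inv_mem (P.sq_mem s hs)))
  simpa [mul_assoc] using this

theorem step_mul {s n x : G} (hs : s ∈ P.S) (hn : n ∈ P.N) (hx : x ∈ dc P n) :
    x * s ∈ dc P (n * s) ∨ x * s ∈ dc P n := by
  rcases inv_mul_step hs (inv_mem hn) (inv_mem_dc hx) with h | h
  · left
    have h' := inv_mem_dc h
    simp only [mul_inv_rev, inv_inv] at h'
    have e : dc P (n * s) = dc P (n * s⁻¹) := by
      refine dc_eq_of_eqv ?_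
      have := P.sq_mem s hs
      simpa [mul_assoc] using this
    rwa [e]
  · right
    have h' := inv_mem_dc h
    simpa only [mul_inv_rev, inv_inv] using h'

theorem step_mul_inv {s n x : G} (hs : s ∈ P.S) (hn : n ∈ P.N) (hx : x ∈ dc P n) :
    x * s⁻¹ ∈ dc P (n * s) ∨ x * s⁻¹ ∈ dc P n := by
  have := step_mul hs hn (dc_mul_mem hx (inv_mem (P.sq_mem s hs)))
  simpa [mul_assoc] using this

/-! ### Words -/

theorem prod_mem_N {w : List G} (hw : ∀ s ∈ w, s ∈ P.S) : w.prod ∈ P.N :=
  list_prod_mem fun s hs => P.subset (hw s hs)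

theorem exists_word {J : Set G} (hJ : J ⊆ P.S) {n : G}
    (hn : n ∈ Subgroup.closure J ⊔ (P.B ⊓ P.N)) :
    ∃ w : List G, (∀ s ∈ w, s ∈ J) ∧ w.prod⁻¹ * n ∈ P.B := by
  rw [← Subgroup.closure_eq (P.B ⊓ P.N), ← Subgroup.closure_union] at hn
  induction hn using Subgroup.closure_induction_left with
  | one => exact ⟨[], by simp, by simp⟩
  | mul_left y hy z _ ih =>
    obtain ⟨w, hw, hwz⟩ := ih
    have hwN := prod_mem_N fun s hs => hJ (hw s hs)
    rcases hy with hy | hy
    · exact ⟨y :: w, by simpa [hy] using hw, by simpa using eqv_mul_left y hwz⟩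
    · refine ⟨w, hw, ?_⟩
      have := mul_mem (conj_mem' hwN hy.1 hy.2) hwz
      simpa [mul_assoc] using this
  | inv_mul_cancel y hy z _ ih =>
    obtain ⟨w, hw, hwz⟩ := ih
    have hwN := prod_mem_N fun s hs => hJ (hw s hs)
    rcases hy with hy | hy
    · refine ⟨y :: w, by simpa [hy] using hw, ?_⟩
      have := mul_mem (inv_mem (conj_mem' hwN (P.sq_mem y (hJ hy))
        (mul_mem (P.subset (hJ hy)) (P.subset (hJ hy))))) hwz
      simpa [mul_assoc] using this
    · refine ⟨w, hw, ?_⟩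
      have := mul_mem (conj_mem' hwN (inv_mem hy.1) (inv_mem hy.2)) hwz
      simpa [mul_assoc] using this

theorem exists_word_N {n : G} (hn : n ∈ P.N) :
    ∃ w : List G, (∀ s ∈ w, s ∈ P.S) ∧ w.prod⁻¹ * n ∈ P.B :=
  exists_word subset_rfl (by rwa [P.closure_sup])

variable (P) in
/-- The length of an element of `N` modulo `B ⊓ N` with respect to `S`. -/
noncomputable def wlen (n : G) : ℕ :=
  sInf {k | ∃ w : List G, (∀ s ∈ w, s ∈ P.S) ∧ w.length = k ∧ w.prod⁻¹ * n ∈ P.B}

theorem wlen_le {n : G} (w : List G) (hw : ∀ s ∈ w, s ∈ P.S) (h : w.prod⁻¹ * n ∈ P.B) :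
    wlen P n ≤ w.length :=
  Nat.sInf_le ⟨w, hw, rfl, h⟩

theorem exists_min {n : G} (hn : n ∈ P.N) :
    ∃ w : List G, (∀ s ∈ w, s ∈ P.S) ∧ w.length = wlen P n ∧ w.prod⁻¹ * n ∈ P.B := by
  obtain ⟨w, hw, h⟩ := exists_word_N hn
  exact Nat.sInf_mem
    (s := {k | ∃ w : List G, (∀ s ∈ w, s ∈ P.S) ∧ w.length = k ∧ w.prod⁻¹ * n ∈ P.B})
    ⟨w.length, w, hw, rfl, h⟩

theorem wlen_congr {a b : G} (h : a⁻¹ * b ∈ P.B) : wlen P a = wlen P b := by
  unfold wlen
  congr 1
  ext k
  constructor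
  · rintro ⟨w, hw, hl, hp⟩; exact ⟨w, hw, hl, eqv_trans hp h⟩
  · rintro ⟨w, hw, hl, hp⟩; exact ⟨w, hw, hl, eqv_trans hp (eqv_symm h)⟩

theorem wlen_mul_le {s n : G} (hs : s ∈ P.S) (hn : n ∈ P.N) :
    wlen P (s * n) ≤ wlen P n + 1 := by
  obtain ⟨w, hw, hl, hp⟩ := exists_min hn
  refine (wlen_le (s :: w) (by simpa [hs] using hw) ?_).trans (by simp [hl])
  simpa using eqv_mul_left s hp

theorem le_wlen_mul {s n : G} (hs : s ∈ P.S) (hn : n ∈ P.N) :
    wlen P n ≤ wlen P (s * n) + 1 := by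
  have hsn := mul_mem (P.subset hs) hn
  rw [wlen_congr (eqv_sq_mul hs hn)]
  exact wlen_mul_le hs hsn

theorem wlen_mul_gen_le {s n : G} (hs : s ∈ P.S) (hn : n ∈ P.N) :
    wlen P (n * s) ≤ wlen P n + 1 := by
  obtain ⟨w, hw, hl, hp⟩ := exists_min hn
  refine (wlen_le (w ++ [s]) ?_ ?_).trans (by simp [hl])
  · intro x hx
    rcases List.mem_append.1 hx with h | h
    · exact hw x h
    · simp only [List.mem_singleton] at h; exact h ▸ hs
  · simpa using eqv_mul_right (prod_mem_N hw) hn (P.subset hs) hp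

theorem mem_B_of_wlen_eq_zero {n : G} (hn : n ∈ P.N) (h : wlen P n = 0) : n ∈ P.B := by
  obtain ⟨w, _, hl, hp⟩ := exists_min hn
  rw [h, List.length_eq_zero_iff] at hl
  simpa [hl] using hp

/-- Uniqueness in the Bruhat decomposition. -/
theorem eqv_of_mem_dc_aux (k : ℕ) : ∀ {n n' : G}, n ∈ P.N → n' ∈ P.N → wlen P n = k →
    k ≤ wlen P n' → n' ∈ dc P n → n⁻¹ * n' ∈ P.B := by
  induction k using Nat.strong_induction_on with
  | _ k ih =>
    intro n n' hn hn' hk hle hmem
    rcases Nat.eq_zero_or_pos k with rfl | hpos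
    · have hnB := mem_B_of_wlen_eq_zero hn hk
      exact mul_mem (inv_mem hnB) (mem_of_mem_dc_of_mem le_rfl hmem hnB)
    · obtain ⟨w, hw, hl, hp⟩ := exists_min hn
      obtain ⟨s, u, rfl⟩ := List.exists_cons_of_length_pos (by omega : 0 < w.length)
      simp only [List.mem_cons, forall_eq_or_imp] at hw
      obtain ⟨hs, hu⟩ := hw
      simp only [List.length_cons] at hl
      rw [List.prod_cons] at hp
      have hmN := prod_mem_N hu
      have hm : wlen P u.prod ≤ u.length := wlen_le u hu (by simp)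
      have h1 : s * u.prod ∈ dc P n' := by
        rw [dc_eq_of_mem hmem, dc_eq_of_eqv hp]; exact self_mem_dc _
      have h2 := inv_mul_step hs hn' h1
      rw [inv_mul_cancel_left] at h2
      rcases h2 with h | h
      · have h3 := le_wlen_mul hs hn'
        have h4 := ih (wlen P u.prod) (by omega) hmN (mul_mem (P.subset hs) hn') rfl
          (by omega) (dc_symm h)
        exact eqv_trans (eqv_symm hp)
          (eqv_trans (eqv_mul_left s h4) (eqv_symm (eqv_sq_mul hs hn')))
      · have h4 := ih (wlen P u.prod) (by omega) hmN hn' rfl (by omega) (dc_symm h)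
        have h5 := wlen_congr h4
        omega

theorem eqv_of_mem_dc {n n' : G} (hn : n ∈ P.N) (hn' : n' ∈ P.N) (h : n' ∈ dc P n) :
    n⁻¹ * n' ∈ P.B := by
  rcases le_total (wlen P n) (wlen P n') with hle | hle
  · exact eqv_of_mem_dc_aux _ hn hn' rfl hle h
  · exact eqv_symm (eqv_of_mem_dc_aux _ hn' hn rfl hle (dc_symm h))

theorem not_eqv_mul_self {s n : G} (hs : s ∈ P.S) (hn : n ∈ P.N) : n⁻¹ * (s * n) ∉ P.B := by
  intro h
  apply not_mem_B hs
  have hN : n⁻¹ * (s * n) ∈ P.N := mul_mem (inv_mem hn) (mul_mem (P.subset hs) hn)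
  have := P.conj_mem n hn _ ⟨h, hN⟩
  simpa [mul_assoc] using this

/-- If `s` does not shorten `n`, then `s B n ⊆ B (s n) B`. -/
theorem mul_mem_dc_of_le {s n b : G} (hs : s ∈ P.S) (hn : n ∈ P.N)
    (hle : wlen P n ≤ wlen P (s * n)) (hb : b ∈ P.B) : s * b * n ∈ dc P (s * n) := by
  generalize hk : wlen P n = k
  induction k using Nat.strong_induction_on generalizing n with
  | _ k ih =>
    rcases Nat.eq_zero_or_pos k with rfl | hpos
    · have hnB := mem_B_of_wlen_eq_zero hn hk
      exact mem_dc.2 ⟨1, one_mem _, n⁻¹ * b * n,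
        mul_mem (mul_mem (inv_mem hnB) hb) hnB, by group⟩
    · obtain ⟨w, hw, hl, hp⟩ := exists_min hn
      rcases List.eq_nil_or_concat w with rfl | ⟨u, r, rfl⟩
      · simp only [List.length_nil] at hl; omega
      · simp only [List.concat_eq_append, List.mem_append, List.mem_singleton, or_imp,
          forall_and, forall_eq] at hw
        obtain ⟨hu, hr⟩ := hw
        simp only [List.concat_eq_append, List.length_append, List.length_cons,
          List.length_nil, List.prod_append, List.prod_cons, List.prod_nil, mul_one] at hl hp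
        have hmN := prod_mem_N hu
        have hm : wlen P u.prod ≤ u.length := wlen_le u hu (by simp)
        have hmrN := mul_mem hmN (P.subset hr)
        have hsmN := mul_mem (P.subset hs) hmN
        have e1 : (s * (u.prod * r))⁻¹ * (s * n) ∈ P.B := eqv_mul_left s hp
        have hle' : wlen P u.prod ≤ wlen P (s * u.prod) := by
          by_contra hcon
          have := wlen_mul_gen_le hr hsmN
          rw [mul_assoc, wlen_congr e1] at this
          omega
        have hx := ih (wlen P u.prod) (by omega) hmN hle' rfl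
        rcases P.mul_mem_union s hs n hn b hb with h | h
        · exact h
        · exfalso
          have e2 : s * b * n = s * b * u.prod * r * ((u.prod * r)⁻¹ * n) := by group
          have h1 : s * b * u.prod * r ∈ dc P n := by
            have := dc_mul_mem h (inv_mem hp)
            rw [e2, mul_inv_cancel_right] at this
            exact this
          have h2 := step_mul_inv hr hn h1
          rw [mul_inv_cancel_right] at h2
          rcases h2 with h3 | h3
          · have h4 := eqv_of_mem_dc (mul_mem hn (P.subset hr)) hsmN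
              (by rw [← dc_eq_of_mem h3, dc_eq_of_mem hx]; exact self_mem_dc _)
            have h5 : u.prod⁻¹ * (n * r) ∈ P.B :=
              eqv_trans (eqv_mul_sq u.prod hr)
                (eqv_mul_right hmrN hn (P.subset hr) hp)
            exact not_eqv_mul_self hs hmN (eqv_trans h5 h4)
          · have h4 := eqv_of_mem_dc hn hsmN
              (by rw [← dc_eq_of_mem h3, dc_eq_of_mem hx]; exact self_mem_dc _)
            have h5 := eqv_trans (eqv_mul_left s h4) (eqv_symm (eqv_sq_mul hs hmN))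
            have h6 := wlen_congr h5
            omega

/-- If `s` does not lengthen `n`, some element of `s B n` lies in `B n B`. -/
theorem exists_mul_mem_dc_of_ge {s n : G} (hs : s ∈ P.S) (hn : n ∈ P.N)
    (hle : wlen P (s * n) ≤ wlen P n) : ∃ b ∈ P.B, s * b * n ∈ dc P n := by
  obtain ⟨b, hb, hbs⟩ := exists_conj_not_mem hs
  refine ⟨b, hb, ?_⟩
  have hsN := P.subset hs
  have hsb : s * b * s ∈ dc P s := by
    rcases P.mul_mem_union s hs s hsN b hb with h | h
    · exact absurd (mem_of_mem_dc_of_mem le_rfl h (P.sq_mem s hs)) hbs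
    · exact h
  obtain ⟨a, ha, c, hc, e⟩ := mem_dc.1 hsb
  have hm : wlen P (s * n) ≤ wlen P (s * (s * n)) := by
    rwa [← wlen_congr (eqv_sq_mul hs hn)]
  have h1 := mul_mem_dc_of_le hs (mul_mem hsN hn) hm hc
  rw [dc_eq_of_eqv (eqv_sq_mul hs hn)] at h1
  have h2 : a * ((s * c * (s * n)) * ((s * n)⁻¹ * (s⁻¹ * n))) ∈ dc P n :=
    mul_mem_dc (dc_mul_mem h1 (eqv_inv_mul hs hn)) ha
  have e' : s * b * n = a * ((s * c * (s * n)) * ((s * n)⁻¹ * (s⁻¹ * n))) := by
    calc s * b * n = (s * b * s) * (s⁻¹ * n) := by group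
    _ = (a * s * c) * (s⁻¹ * n) := by rw [e]
    _ = a * ((s * c * (s * n)) * ((s * n)⁻¹ * (s⁻¹ * n))) := by group
  rwa [e']

theorem wlen_mul_ne {s n : G} (hs : s ∈ P.S) (hn : n ∈ P.N) : wlen P (s * n) ≠ wlen P n := by
  intro h
  obtain ⟨b, hb, h1⟩ := exists_mul_mem_dc_of_ge hs hn h.le
  have h2 := mul_mem_dc_of_le hs hn h.ge hb
  have h3 := eqv_of_mem_dc hn (mul_mem (P.subset hs) hn)
    (by rw [← dc_eq_of_mem h1, dc_eq_of_mem h2]; exact self_mem_dc _)
  exact not_eqv_mul_self hs hn h3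

theorem wlen_one : wlen P (1 : G) = 0 :=
  Nat.le_zero.1 (wlen_le [] (by simp) (by simp))

theorem wlen_gen {s : G} (hs : s ∈ P.S) : wlen P s = 1 := by
  have h1 := wlen_mul_le hs (one_mem P.N)
  have h2 := wlen_mul_ne hs (one_mem P.N)
  rw [mul_one, wlen_one] at h1 h2
  omega

/-! ### Reduced words and exchange -/

variable (P) in
/-- A word in `S` of minimal length. -/
def Reduced (w : List G) : Prop := (∀ s ∈ w, s ∈ P.S) ∧ wlen P w.prod = w.length

theorem Reduced.of_append_left {u v : List G} (h : Reduced P (u ++ v)) : Reduced P u := by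
  have hu : ∀ s ∈ u, s ∈ P.S := fun s hs => h.1 s (List.mem_append.2 (.inl hs))
  refine ⟨hu, le_antisymm (wlen_le u hu (by simp)) ?_⟩
  by_contra hcon
  obtain ⟨w, hw, hl, hp⟩ := exists_min (prod_mem_N hu)
  have hv : ∀ s ∈ v, s ∈ P.S := fun s hs => h.1 s (List.mem_append.2 (.inr hs))
  have : wlen P (u ++ v).prod ≤ (w ++ v).length := by
    refine wlen_le (w ++ v) ?_ ?_
    · intro s hs
      rcases List.mem_append.1 hs with h' | h'
      exacts [hw s h', hv s h']
    · simpa using eqv_mul_right (prod_mem_N hw) (prod_mem_N hu) (prod_mem_N hv) hp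
  rw [h.2, List.length_append, List.length_append] at this
  omega

theorem Reduced.of_cons {s : G} {w : List G} (h : Reduced P (s :: w)) : Reduced P w := by
  have hw : ∀ x ∈ w, x ∈ P.S := fun x hx => h.1 x (List.mem_cons_of_mem _ hx)
  have hs := h.1 s (List.mem_cons_self ..)
  have h1 := wlen_mul_le hs (prod_mem_N hw)
  have h2 := wlen_le w hw (n := w.prod) (by simp)
  have h3 := h.2
  simp only [List.prod_cons, List.length_cons] at h3
  exact ⟨hw, by omega⟩

/-- Exchange condition. -/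
theorem exchange {s : G} (hs : s ∈ P.S) {w : List G} (hw : Reduced P w)
    (hle : wlen P (s * w.prod) ≤ w.length) :
    ∃ u r v, w = u ++ r :: v ∧ (u ++ v).prod⁻¹ * (s * w.prod) ∈ P.B := by
  induction w using List.reverseRecOn with
  | nil => simp only [List.prod_nil, mul_one, List.length_nil, wlen_gen hs] at hle; omega
  | append_singleton w r ih =>
    have hw' := hw.of_append_left
    have hr : r ∈ P.S := hw.1 r (by simp)
    have hmN := prod_mem_N hw'.1
    have hsmN := mul_mem (P.subset hs) hmN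
    by_cases hc : wlen P (s * w.prod) ≤ w.length
    · obtain ⟨u, r', v, he, hp⟩ := ih hw' hc
      refine ⟨u, r', v ++ [r], by simp [he], ?_⟩
      have hN : (u ++ v).prod ∈ P.N := prod_mem_N fun x hx => hw'.1 x (by
        rw [he]; simp only [List.mem_append, List.mem_cons] at hx ⊢; tauto)
      have := eqv_mul_right hN hsmN (P.subset hr) hp
      simpa [mul_assoc] using this
    · simp only [List.prod_append, List.prod_cons, List.prod_nil, mul_one, List.length_append,
        List.length_cons, List.length_nil] at hle hw ⊢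
      have hwn : wlen P (w.prod * r) = w.length + 1 := by simpa using hw.2
      have hmrN := mul_mem hmN (P.subset hr)
      obtain ⟨b, hb, h1⟩ := exists_mul_mem_dc_of_ge hs hmrN (by omega)
      have hx : s * b * w.prod ∈ dc P (s * w.prod) :=
        mul_mem_dc_of_le hs hmN (by rw [hw'.2]; omega) hb
      rw [← mul_assoc] at h1
      have h2 := step_mul_inv hr hmrN h1
      rw [mul_inv_cancel_right] at h2
      rcases h2 with h3 | h3
      · exfalso
        have h4 := eqv_of_mem_dc (mul_mem hmrN (P.subset hr)) hsmN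
          (by rw [← dc_eq_of_mem h3, dc_eq_of_mem hx]; exact self_mem_dc _)
        exact not_eqv_mul_self hs hmN (eqv_trans (eqv_mul_sq _ hr) h4)
      · have h4 := eqv_of_mem_dc hmrN hsmN
          (by rw [← dc_eq_of_mem h3, dc_eq_of_mem hx]; exact self_mem_dc _)
        refine ⟨w, r, [], by simp, ?_⟩
        have h5 := eqv_trans (eqv_mul_sq _ hr)
          (eqv_mul_right hmrN hsmN (P.subset hr) h4)
        simpa [mul_assoc] using h5

theorem exists_reduced_of_word {w : List G} (hw : ∀ s ∈ w, s ∈ P.S) :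
    ∃ v : List G, v ⊆ w ∧ Reduced P v ∧ v.prod⁻¹ * w.prod ∈ P.B := by
  induction w with
  | nil => exact ⟨[], by simp, ⟨by simp, by simp [wlen_one]⟩, by simp⟩
  | cons s w ih =>
    simp only [List.mem_cons, forall_eq_or_imp] at hw
    obtain ⟨v, hvw, hv, hp⟩ := ih hw.2
    have hvN := prod_mem_N hv.1
    have h1 := wlen_mul_le hw.1 hvN
    by_cases hc : wlen P (s * v.prod) ≤ v.length
    · obtain ⟨u, r, u', he, hp'⟩ := exchange hw.1 hv hc
      have hsub : u ++ u' ⊆ v := by
        intro x hx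
        rw [he]; simp only [List.mem_append, List.mem_cons] at hx ⊢; tauto
      have hS : ∀ x ∈ u ++ u', x ∈ P.S := fun x hx => hv.1 x (hsub hx)
      have h2 := le_wlen_mul hw.1 hvN
      have h3 := wlen_le (u ++ u') hS hp'
      have h4 := wlen_congr hp'
      have h5 : (u ++ u').length + 1 = v.length := by simp [he]; omega
      refine ⟨u ++ u', fun x hx => List.mem_cons_of_mem _ (hvw (hsub hx)), ⟨hS, ?_⟩, ?_⟩
      · rw [hv.2] at h2; omega
      · rw [List.prod_cons]
        exact eqv_trans hp' (eqv_mul_left s hp)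
    · refine ⟨s :: v, ?_, ⟨by simpa [hw.1] using hv.1, ?_⟩, by simpa using eqv_mul_left s hp⟩
      · intro x hx
        rcases List.mem_cons.1 hx with rfl | hx
        exacts [List.mem_cons_self .., List.mem_cons_of_mem _ (hvw hx)]
      · simp only [List.prod_cons, List.length_cons]
        rw [hv.2] at h1; omega

/-! ### Parabolic subgroups -/

theorem B_le_parabolic (J : Set G) : P.B ≤ P.parabolic J := le_sup_left

theorem closure_le_parabolic (J : Set G) : Subgroup.closure J ≤ P.parabolic J := le_sup_right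

theorem mem_parabolic_iff {J : Set G} (hJ : J ⊆ P.S) (g : G) :
    g ∈ P.parabolic J ↔ ∃ n ∈ Subgroup.closure J, g ∈ dc P n := by
  constructor
  · intro hg
    unfold BNPair.parabolic at hg
    rw [← Subgroup.closure_eq P.B, ← Subgroup.closure_union] at hg
    induction hg using Subgroup.closure_induction_left with
    | one => exact ⟨1, one_mem _, self_mem_dc 1⟩
    | mul_left y hy z _ ih =>
      obtain ⟨n, hn, hz⟩ := ih
      have hnN : n ∈ P.N := (Subgroup.closure_le _).2 (hJ.trans P.subset) hn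
      rcases hy with hy | hy
      · exact ⟨n, hn, mul_mem_dc hz hy⟩
      · rcases mul_step (hJ hy) hnN hz with h | h
        · exact ⟨y * n, mul_mem (Subgroup.subset_closure hy) hn, h⟩
        · exact ⟨n, hn, h⟩
    | inv_mul_cancel y hy z _ ih =>
      obtain ⟨n, hn, hz⟩ := ih
      have hnN : n ∈ P.N := (Subgroup.closure_le _).2 (hJ.trans P.subset) hn
      rcases hy with hy | hy
      · exact ⟨n, hn, mul_mem_dc hz (inv_mem hy)⟩
      · rcases inv_mul_step (hJ hy) hnN hz with h | h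
        · exact ⟨y * n, mul_mem (Subgroup.subset_closure hy) hn, h⟩
        · exact ⟨n, hn, h⟩
  · rintro ⟨n, hn, hg⟩
    exact mem_of_mem_dc_of_mem (B_le_parabolic J) hg (closure_le_parabolic J hn)

theorem N_le_parabolic : P.N ≤ P.parabolic P.S := by
  have h := P.closure_sup
  calc P.N = Subgroup.closure P.S ⊔ (P.B ⊓ P.N) := h.symm
  _ ≤ P.parabolic P.S :=
    sup_le (closure_le_parabolic _) (inf_le_left.trans (B_le_parabolic _))

theorem parabolic_S : P.parabolic P.S = ⊤ :=
  top_unique (P.sup_eq_top ▸ sup_le (B_le_parabolic _) N_le_parabolic)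

/-- Bruhat decomposition. -/
theorem exists_mem_dc (g : G) : ∃ n ∈ P.N, g ∈ dc P n := by
  obtain ⟨n, hn, h⟩ := (mem_parabolic_iff subset_rfl g).1 (parabolic_S (P := P) ▸ Subgroup.mem_top g)
  exact ⟨n, (Subgroup.closure_le _).2 P.subset hn, h⟩

theorem exists_reduced_of_mem_parabolic {J : Set G} (hJ : J ⊆ P.S) {n : G} (hn : n ∈ P.N)
    (h : n ∈ P.parabolic J) :
    ∃ w : List G, (∀ s ∈ w, s ∈ J) ∧ Reduced P w ∧ w.prod⁻¹ * n ∈ P.B := by
  obtain ⟨m, hm, hd⟩ := (mem_parabolic_iff hJ n).1 h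
  obtain ⟨w, hw, hp⟩ := exists_word hJ (n := m) (Subgroup.mem_sup_left hm)
  obtain ⟨v, hvw, hv, hp'⟩ := exists_reduced_of_word fun s hs => hJ (hw s hs)
  have hmN : m ∈ P.N := (Subgroup.closure_le _).2 (hJ.trans P.subset) hm
  exact ⟨v, fun s hs => hw s (hvw hs), hv,
    eqv_trans hp' (eqv_trans hp (eqv_of_mem_dc hmN hn hd))⟩

theorem prod_mem_parabolic {J : Set G} {w : List G} (hw : ∀ s ∈ w, s ∈ J) :
    w.prod ∈ P.parabolic J :=
  list_prod_mem fun s hs => closure_le_parabolic J (Subgroup.subset_closure (hw s hs))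

theorem mem_of_mem_parabolic {J : Set G} (hJ : J ⊆ P.S) {s : G} (hs : s ∈ P.S)
    (h : s ∈ P.parabolic J) : s ∈ J := by
  obtain ⟨w, hw, hred, hp⟩ := exists_reduced_of_mem_parabolic hJ (P.subset hs) h
  have hl : w.length = 1 := by rw [← hred.2, wlen_congr hp, wlen_gen hs]
  obtain ⟨r, rfl⟩ := List.length_eq_one_iff.1 hl
  have hr : r ∈ J := hw r (by simp)
  simp only [List.prod_cons, List.prod_nil, mul_one] at hp
  exact P.inj r (hJ hr) s hs hp ▸ hr

/-- An element of `N` conjugating `B` into `M ≥ B` lies in the parabolic subgroup of `S ∩ M`. -/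
theorem mem_parabolic_of_conj {M : Subgroup G} (hM : P.B ≤ M) {n : G} (hn : n ∈ P.N)
    (h : ∀ b ∈ P.B, n * b * n⁻¹ ∈ M) : n ∈ P.parabolic (P.S ∩ M) := by
  generalize hk : wlen P n = k
  induction k using Nat.strong_induction_on generalizing n with
  | _ k ih =>
    rcases Nat.eq_zero_or_pos k with rfl | hpos
    · exact B_le_parabolic _ (mem_B_of_wlen_eq_zero hn hk)
    · obtain ⟨w, hw, hl, hp⟩ := exists_min hn
      obtain ⟨s, u, rfl⟩ := List.exists_cons_of_length_pos (by omega : 0 < w.length)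
      simp only [List.mem_cons, forall_eq_or_imp] at hw
      obtain ⟨hs, hu⟩ := hw
      simp only [List.length_cons] at hl
      rw [List.prod_cons] at hp
      have hm : wlen P u.prod ≤ u.length := wlen_le u hu (by simp)
      have hsn : wlen P (s * n) = wlen P u.prod :=
        (wlen_congr (eqv_trans (eqv_sq_mul hs (prod_mem_N hu)) (eqv_mul_left s hp))).symm
      obtain ⟨b, hb, hmem⟩ := exists_mul_mem_dc_of_ge hs hn (by omega)
      obtain ⟨a, ha, c, hc, e⟩ := mem_dc.1 hmem
      have hsM : s ∈ M := by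
        have e' : s = a * (n * c * n⁻¹) * b⁻¹ := by
          calc s = (s * b * n) * n⁻¹ * b⁻¹ := by group
          _ = (a * n * c) * n⁻¹ * b⁻¹ := by rw [e]
          _ = a * (n * c * n⁻¹) * b⁻¹ := by group
        rw [e']
        exact mul_mem (mul_mem (hM ha) (h c hc)) (inv_mem (hM hb))
      have h' : ∀ x ∈ P.B, s * n * x * (s * n)⁻¹ ∈ M := by
        intro x hx
        have := mul_mem (mul_mem hsM (h x hx)) (inv_mem hsM)
        simpa [mul_assoc] using this
      have h1 := ih (wlen P (s * n)) (by omega) (mul_mem (P.subset hs) hn) h' rfl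
      have hsP : s ∈ P.parabolic (P.S ∩ M) :=
        closure_le_parabolic _ (Subgroup.subset_closure ⟨hs, hsM⟩)
      have := mul_mem (inv_mem hsP) h1
      rwa [inv_mul_cancel_left] at this

theorem parabolic_inter_le {M : Subgroup G} (hM : P.B ≤ M) : P.parabolic (P.S ∩ M) ≤ M :=
  sup_le hM ((Subgroup.closure_le _).2 fun _ hx => hx.2)

theorem mem_of_conj {M : Subgroup G} (hM : P.B ≤ M) {n : G} (hn : n ∈ P.N)
    (h : ∀ b ∈ P.B, n * b * n⁻¹ ∈ M) : n ∈ M :=
  parabolic_inter_le hM (mem_parabolic_of_conj hM hn h)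

theorem eq_parabolic {M : Subgroup G} (hM : P.B ≤ M) : M = P.parabolic (P.S ∩ M) := by
  refine le_antisymm (fun g hg => ?_) (parabolic_inter_le hM)
  obtain ⟨n, hn, hd⟩ := exists_mem_dc (P := P) g
  have hnM : n ∈ M := mem_of_mem_dc_of_mem' hM hd hg
  exact mem_of_mem_dc_of_mem (B_le_parabolic _) hd
    (mem_parabolic_of_conj hM hn fun b hb => mul_mem (mul_mem hnM (hM hb)) (inv_mem hnM))

end Cfsg.Agent.BN
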