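import Mathlib.GroupTheory.Coxeter.Basic
import Mathlib.GroupTheory.OrderOfElement
import Mathlib.Tactic.Group

/-!
A group generated by involutions satisfying the exchange condition is a Coxeter group.
-/

set_option autoImplicit false

namespace Cfsg.Agent.BN.Exch

variable {W ι : Type*} [Group W]

/-- The alternating word of length `k` starting with `a`. -/
def alt (a b : ι) : ℕ → List ι
  | 0 => []
  | k + 1 => a :: alt b a k

theorem length_alt (k : ℕ) : ∀ a b : ι, (alt a b k).length = k := by
  induction k with
  | zero => intro a b; rfl
  | succ k ih => intro a b; simp [alt, ih]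

theorem alt_split : ∀ (k : ℕ) (a b : ι) (u v : List ι) (x : ι),
    alt a b k = u ++ x :: v → u ≠ [] → v ≠ [] →
    ∃ u₀ y v₀, u = u₀ ++ [y] ∧ v = y :: v₀ := by
  intro k
  induction k with
  | zero => intro a b u v x h; simp [alt] at h
  | succ k ih =>
    intro a b u v x h hu hv
    obtain ⟨h₀, u₁, rfl⟩ := List.exists_cons_of_ne_nil hu
    simp only [alt, List.cons_append, List.cons.injEq] at h
    obtain ⟨rfl, h⟩ := h
    rcases u₁ with _ | ⟨h₁, u₁⟩
    · rcases k with _ | _ | k
      · simp [alt] at h
      · simp [alt] at h; exact absurd h.2 hv
      · simp only [alt, List.nil_append, List.cons.injEq] at h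
        exact ⟨[], a, alt b a k, rfl, h.2.symm⟩
    · obtain ⟨u₀, y, v₀, e1, e2⟩ := ih b a (h₁ :: u₁) v x h (by simp) hv
      exact ⟨a :: u₀, y, v₀, by rw [e1]; rfl, e2⟩

theorem alt_dropLast : ∀ (k : ℕ) (a b : ι) (u : List ι) (x : ι),
    alt a b k = u ++ [x] → ∃ j, k = j + 1 ∧ u = alt a b j := by
  intro k
  induction k with
  | zero => intro a b u x h; simp [alt] at h
  | succ k ih =>
    intro a b u x h
    rcases u with _ | ⟨h₀, u⟩
    · simp only [alt, List.nil_append, List.cons.injEq] at h
      have hk : k = 0 := by
        have := congrArg List.length h.2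
        simpa [length_alt] using this
      exact ⟨0, by simp [hk], rfl⟩
    · simp only [alt, List.cons_append, List.cons.injEq] at h
      obtain ⟨j, hj, hu⟩ := ih b a u x h.2
      exact ⟨j + 1, by omega, by simp [alt, ← h.1, hu]⟩

/-- `(a b)^k = 1` in terms of alternating products, for involutions `a`, `b`. -/
theorem prod_alt_mul_inv (f : ι → W) (hsq : ∀ i, f i * f i = 1) (k : ℕ) :
    ∀ a b : ι, ((alt a b k).map f).prod * (((alt b a k).map f).prod)⁻¹ = (f a * f b) ^ k := by
  induction k with
  | zero => intro a b; simp [alt]
  | succ k ih =>
    intro a b
    have h : ∀ i, (f i)⁻¹ = f i := fun i => inv_eq_of_mul_eq_one_right (hsq i)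
    simp only [alt, List.map_cons, List.prod_cons, mul_inv_rev, h]
    calc f a * ((alt b a k).map f).prod * ((((alt a b k).map f).prod)⁻¹ * f b)
        = f a * (((alt b a k).map f).prod * (((alt a b k).map f).prod)⁻¹) * f b := by group
      _ = f a * (f b * f a) ^ k * f b := by rw [ih]
      _ = (f a * f b) ^ k * f a * f b := by
          congr 1
          exact ((show SemiconjBy (f a) (f b * f a) (f a * f b) from by
            simp [SemiconjBy, mul_assoc]).pow_right k).eq
      _ = (f a * f b) ^ (k + 1) := by rw [mul_assoc, pow_succ]

variable (f : ι → W)

/-- Word length. -/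
noncomputable def rlen (n : W) : ℕ := sInf {k | ∃ w : List ι, w.length = k ∧ (w.map f).prod = n}

/-- A word of minimal length. -/
def IsRed (w : List ι) : Prop := rlen f (w.map f).prod = w.length

/-- The exchange condition. -/
def Exchange : Prop :=
  ∀ (i : ι) (w : List ι), IsRed f w → rlen f (f i * (w.map f).prod) ≤ w.length →
    ∃ u r v, w = u ++ r :: v ∧ f i * (w.map f).prod = ((u ++ v).map f).prod

variable {f}

theorem rlen_le (w : List ι) : rlen f (w.map f).prod ≤ w.length := Nat.sInf_le ⟨w, rfl, rfl⟩

theorem isRed_tail {i : ι} {w : List ι} (hgen : ∀ n : W, ∃ w : List ι, (w.map f).prod = n)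
    (h : IsRed f (i :: w)) : IsRed f w := by
  refine le_antisymm (rlen_le w) ?_
  obtain ⟨v, hv, hp⟩ := Nat.sInf_mem
    (s := {k | ∃ v : List ι, v.length = k ∧ (v.map f).prod = (w.map f).prod})
    (by obtain ⟨v, hv⟩ := hgen (w.map f).prod; exact ⟨v.length, v, rfl, hv⟩)
  change w.length ≤ sInf _
  rw [← hv]
  have h1 := rlen_le (f := f) (i :: v)
  simp only [List.map_cons, List.prod_cons, List.length_cons, hp] at h1
  have h2 := h
  simp only [IsRed, List.map_cons, List.prod_cons, List.length_cons] at h2
  omega

variable (f) in
/-- The Coxeter matrix of orders of products of two generators. -/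
noncomputable def matrix (hinj : Function.Injective f) (hsq : ∀ i, f i * f i = 1) :
    CoxeterMatrix ι where
  M := Matrix.of fun i j => orderOf (f i * f j)
  isSymm := by
    ext i j
    simp only [Matrix.transpose_apply, Matrix.of_apply]
    rw [← orderOf_inv (f i * f j), mul_inv_rev, inv_eq_of_mul_eq_one_right (hsq i),
      inv_eq_of_mul_eq_one_right (hsq j)]
  diagonal i := by simp [hsq i]
  off_diagonal i j hij h := by
    simp only [Matrix.of_apply, orderOf_eq_one_iff] at h
    apply hij
    apply hinj
    rw [← mul_one (f i), ← hsq j, ← mul_assoc, h, one_mul]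

variable (hinj : Function.Injective f) (hsq : ∀ i, f i * f i = 1)
  (hgen : ∀ n : W, ∃ w : List ι, (w.map f).prod = n) (hex : Exchange f)

include hgen hex in
/-- Tits: two reduced words with the same value agree in the Coxeter group. -/
theorem cprod_eq (q : ℕ) : ∀ w w' : List ι, IsRed f w → IsRed f w' → w.length = q →
    (w.map f).prod = (w'.map f).prod →
    (w.map (matrix f hinj hsq).simple).prod = (w'.map (matrix f hinj hsq).simple).prod := by
  induction q using Nat.strong_induction_on with
  | _ q ih =>
    intro w w' hw hw' hq hp
    have hlen : w'.length = q := by rw [← hq, ← hw, ← hw', hp]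
    rcases w with _ | ⟨i, u⟩
    · rw [List.length_eq_zero_iff.1 (hlen.trans hq.symm)]
    rcases w' with _ | ⟨j, u'⟩
    · simp at hlen hq; omega
    simp only [List.length_cons] at hq hlen
    -- words with the same first letter
    have step : ∀ (a : ι) (v v' : List ι), IsRed f (a :: v) → IsRed f (a :: v') →
        v.length + 1 = q → ((a :: v).map f).prod = ((a :: v').map f).prod →
        ((a :: v).map (matrix f hinj hsq).simple).prod =
          ((a :: v').map (matrix f hinj hsq).simple).prod := by
      intro a v v' hv hv' hl he
      simp only [List.map_cons, List.prod_cons, mul_right_inj] at he ⊢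
      exact ih v.length (by omega) v v' (isRed_tail hgen hv) (isRed_tail hgen hv') rfl he
    by_cases hij : i = j
    · subst hij; exact step i u u' hw hw' hq hp
    -- climb along alternating prefixes
    set n := ((i :: u).map f).prod with hn
    have hrl : rlen f n = q := by rw [hw, List.length_cons, hq]
    have desc : ∀ b : ι, b = i ∨ b = j → rlen f (f b * n) + 1 ≤ q := by
      rintro b (rfl | rfl)
      · rw [hn, List.map_cons, List.prod_cons, ← mul_assoc, hsq, one_mul]
        exact (Nat.add_le_add_right (rlen_le u) 1).trans hq.le
      · rw [hp, List.map_cons, List.prod_cons, ← mul_assoc, hsq, one_mul]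
        exact (Nat.add_le_add_right (rlen_le u') 1).trans hlen.le
    have key : ∀ (fuel k : ℕ) (a b : ι) (r : List ι), q + 1 ≤ fuel + k →
        (a = i ∧ b = j ∨ a = j ∧ b = i) → 1 ≤ k → IsRed f (alt a b k ++ r) →
        ((alt a b k ++ r).map f).prod = n →
        ∃ k r, 1 ≤ k ∧ (f i * f j) ^ k = 1 ∧ IsRed f (alt i j k ++ r) ∧
          ((alt i j k ++ r).map f).prod = n := by
      intro fuel
      induction fuel with
      | zero =>
        intro k a b r h _ _ hred he
        rw [IsRed, he, hrl, List.length_append, length_alt] at hred
        omega
      | succ fuel ihf =>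
        intro k a b r hf hab hk hred he
        have hl : k + r.length = q := by
          rw [IsRed, he, hrl, List.length_append, length_alt] at hred; omega
        have hb := desc b (by tauto)
        obtain ⟨u₁, x, v₁, e1, e2⟩ := hex b _ hred (by
          rw [he, List.length_append, length_alt]; omega)
        rw [he] at e2
        have hfull : ((b :: (u₁ ++ v₁)).map f).prod = n := by
          rw [List.map_cons, List.prod_cons, ← e2, ← mul_assoc, hsq, one_mul]
        rcases List.append_eq_append_iff.1 e1 with ⟨c', h1, h2⟩ | ⟨c', h1, h2⟩
        · -- the deleted letter is after the prefix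
          refine ihf (k + 1) b a (c' ++ v₁) (by omega) (by tauto) (by omega) ?_ ?_
          · have hl2 : (alt b a (k + 1) ++ (c' ++ v₁)).length = q := by
              rw [List.length_append, length_alt]
              have := congrArg List.length h2
              simp only [List.length_append, List.length_cons] at this ⊢
              omega
            rw [IsRed, hl2, ← hrl]
            congr 1
            rw [← hfull, h1]
            simp [alt, List.append_assoc]
          · rw [← hfull, h1]
            simp [alt, List.append_assoc]
        · rcases c' with _ | ⟨y, c'⟩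
          · simp only [List.append_nil] at h1
            simp only [List.nil_append] at h2
            refine ihf (k + 1) b a v₁ (by omega) (by tauto) (by omega) ?_ ?_
            · have hl2 : (alt b a (k + 1) ++ v₁).length = q := by
                rw [List.length_append, length_alt]
                have := congrArg List.length h2
                simp only [List.length_cons] at this
                omega
              rw [IsRed, hl2, ← hrl]
              congr 1
              rw [← hfull, ← h1]
              simp [alt]
            · rw [← hfull, ← h1]
              simp [alt]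
          simp only [List.cons_append, List.cons.injEq] at h2
          obtain ⟨rfl, h2⟩ := h2
          subst h2
          rcases eq_or_ne u₁ [] with rfl | hu1
          · -- first letter deleted
            exfalso
            obtain ⟨k', rfl⟩ : ∃ k', k = k' + 1 := ⟨k - 1, by omega⟩
            simp only [alt, List.nil_append, List.cons.injEq] at h1
            obtain ⟨hxa, h1⟩ := h1
            simp only [List.nil_append] at e2
            rw [← he] at e2
            simp only [alt, h1, List.cons_append, List.map_cons, List.prod_cons,
              ← mul_assoc] at e2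
            have h3 : f b * f a = 1 := mul_right_cancel (e2.trans (one_mul _).symm)
            have h4 : f b = f a := by
              rw [← mul_one (f b), ← hsq a, ← mul_assoc, h3, one_mul]
            rcases hab with ⟨rfl, rfl⟩ | ⟨rfl, rfl⟩
            · exact hij (hinj h4).symm
            · exact hij (hinj h4)
          rcases eq_or_ne c' [] with rfl | hc1
          · -- last letter deleted
            obtain ⟨k', rfl, rfl⟩ := alt_dropLast k a b u₁ x h1
            have e3 : f b * ((alt a b (k' + 1)).map f).prod = ((alt a b k').map f).prod := by
              rw [← he] at e2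
              simp only [List.map_append, List.prod_append, List.nil_append, ← mul_assoc] at e2
              exact mul_right_cancel e2
            have e4 : ((alt a b (k' + 1)).map f).prod = ((alt b a (k' + 1)).map f).prod := by
              rw [show alt b a (k' + 1) = b :: alt a b k' from rfl, List.map_cons, List.prod_cons,
                ← e3, ← mul_assoc, hsq, one_mul]
            have e5 : (f a * f b) ^ (k' + 1) = 1 := by
              rw [← prod_alt_mul_inv f hsq, e4, mul_inv_cancel]
            rcases hab with ⟨rfl, rfl⟩ | ⟨rfl, rfl⟩
            · exact ⟨k' + 1, r, by omega, e5, hred, he⟩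
            · have e6 : ((alt b a (k' + 1) ++ r).map f).prod = n := by
                rw [← he, List.map_append, List.prod_append, ← e4, ← List.prod_append,
                  ← List.map_append]
              refine ⟨k' + 1, r, by omega, ?_, ?_, e6⟩
              · have hinv : f b * f a = (f a * f b)⁻¹ := by
                  rw [mul_inv_rev, inv_eq_of_mul_eq_one_right (hsq a),
                    inv_eq_of_mul_eq_one_right (hsq b)]
                rw [hinv, inv_pow, e5, inv_one]
              · rw [IsRed, e6, hrl, List.length_append, length_alt]; omega
          · -- an inner letter deleted: two equal neighbours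
            exfalso
            obtain ⟨u₀, y, v₀, rfl, rfl⟩ := alt_split k a b u₁ c' x h1 hu1 hc1
            have e3 : n = ((b :: (u₀ ++ (v₀ ++ r))).map f).prod := by
              rw [← hfull]
              simp only [List.map_cons, List.map_append, List.prod_cons, List.prod_append,
                List.map_nil, List.prod_nil, mul_one, mul_assoc]
              rw [← mul_assoc (f y) (f y), hsq, one_mul]
            have h4 := rlen_le (f := f) (b :: (u₀ ++ (v₀ ++ r)))
            rw [← e3, hrl] at h4
            have h5 := congrArg List.length h1
            simp only [length_alt, List.length_append, List.length_cons, List.length_nil] at h5 h4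
            omega
    obtain ⟨k, r, hk, hpow, hred, he⟩ :=
      key q 1 i j u (by omega) (.inl ⟨rfl, rfl⟩) le_rfl hw rfl
    obtain ⟨k', rfl⟩ : ∃ k', k = k' + 1 := ⟨k - 1, by omega⟩
    have hl : k' + 1 + r.length = q := by
      rw [IsRed, he, hrl, List.length_append, length_alt] at hred; omega
    have e4 : ((alt i j (k' + 1)).map f).prod = ((alt j i (k' + 1)).map f).prod := by
      rw [← mul_inv_eq_one, prod_alt_mul_inv f hsq, hpow]
    have he' : ((alt j i (k' + 1) ++ r).map f).prod = n := by
      rw [← he, List.map_append, List.prod_append, ← e4, ← List.prod_append, ← List.map_append]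
    have hred' : IsRed f (alt j i (k' + 1) ++ r) := by
      rw [IsRed, he', hrl, List.length_append, length_alt]; omega
    have c1 := step i u (alt j i k' ++ r) hw (by simpa [alt] using hred) hq
      he.symm
    have c2 := step j (alt i j k' ++ r) u' (by simpa [alt] using hred') hw'
      (by rw [List.length_append, length_alt]; omega) (he'.trans hp)
    set cs := (matrix f hinj hsq).toCoxeterSystem
    have hc : ∀ a, cs.simple a = (matrix f hinj hsq).simple a := fun a => rfl
    have e6 : ((alt i j (k' + 1)).map (matrix f hinj hsq).simple).prod =
        ((alt j i (k' + 1)).map (matrix f hinj hsq).simple).prod := by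
      rw [← mul_inv_eq_one, prod_alt_mul_inv _ (fun a => by rw [← hc, cs.simple_mul_simple_self])]
      obtain ⟨d, hd⟩ := orderOf_dvd_of_pow_eq_one hpow
      rw [hd, pow_mul, ← hc, ← hc]
      exact (congrArg (· ^ d) (cs.simple_mul_simple_pow i j)).trans (one_pow d)
    refine c1.trans (Eq.trans ?_ c2)
    have e7 : i :: (alt j i k' ++ r) = alt i j (k' + 1) ++ r := rfl
    have e8 : j :: (alt i j k' ++ r) = alt j i (k' + 1) ++ r := rfl
    rw [e7, e8, List.map_append, List.prod_append, e6, List.map_append, List.prod_append]

include hgen hex in
/-- A group generated by involutions with the exchange condition is a Coxeter system for the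
matrix of the orders of products of two generators. -/
theorem exists_coxeterSystem_matrix :
    ∃ cs : CoxeterSystem (matrix f hinj hsq) W, ∀ i, cs.simple i = f i := by
  classical
  set M := matrix f hinj hsq with hM
  have hlift : M.IsLiftable f := fun i j => pow_orderOf_eq_one (f i * f j)
  let cs₀ := M.toCoxeterSystem
  let π : M.Group →* W := cs₀.lift ⟨f, hlift⟩
  have hπ : ∀ i, π (cs₀.simple i) = f i := fun i => cs₀.lift_apply_simple hlift i
  have hredex : ∀ n : W, ∃ w : List ι, (w.map f).prod = n ∧ IsRed f w := by
    intro n
    obtain ⟨w, hw, hp⟩ := Nat.sInf_mem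
      (s := {k | ∃ w : List ι, w.length = k ∧ (w.map f).prod = n})
      (by obtain ⟨w, hw⟩ := hgen n; exact ⟨w.length, w, rfl, hw⟩)
    exact ⟨w, hp, by rw [IsRed, hp, hw]; rfl⟩
  let g : W → M.Group := fun n => ((Classical.choose (hredex n)).map M.simple).prod
  have hg : ∀ (n : W) (w : List ι), (w.map f).prod = n → IsRed f w →
      g n = (w.map M.simple).prod := fun n w hw hr =>
    cprod_eq hinj hsq hgen hex _ _ w (Classical.choose_spec (hredex n)).2 hr rfl
      ((Classical.choose_spec (hredex n)).1.trans hw.symm)
  have hstep : ∀ i n, g (f i * n) = cs₀.simple i * g n := by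
    intro i n
    obtain ⟨w, hw, hr⟩ := hredex n
    rw [hg n w hw hr]
    change _ = M.simple i * _
    by_cases hle : rlen f (f i * (w.map f).prod) ≤ w.length
    · obtain ⟨u, r, v, e1, e2⟩ := hex i w hr hle
      have hl : (u ++ v).length + 1 = w.length := by
        rw [e1]; simp only [List.length_append, List.length_cons]; omega
      have e3 : ((i :: (u ++ v)).map f).prod = n := by
        rw [List.map_cons, List.prod_cons, ← e2, ← mul_assoc, hsq, one_mul, hw]
      have hr1 : IsRed f (i :: (u ++ v)) := by
        rw [IsRed, e3, ← hw, hr, List.length_cons, hl]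
      have hr2 : IsRed f (u ++ v) := isRed_tail hgen hr1
      rw [hg _ (u ++ v) (by rw [← e2, hw]) hr2, ← hg n w hw hr, hg n _ e3 hr1,
        List.map_cons, List.prod_cons, ← mul_assoc]
      have := cs₀.simple_mul_simple_self i
      change M.simple i * M.simple i = 1 at this
      rw [this, one_mul]
    · rw [hg _ (i :: w) (by rw [List.map_cons, List.prod_cons, hw]) ?_]
      · simp
      · refine le_antisymm (rlen_le _) ?_
        rw [List.map_cons, List.prod_cons, List.length_cons]
        omega
  have hinjπ : Function.Injective π := by
    have : ∀ x, g (π x) = x := by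
      intro x
      induction x using cs₀.simple_induction_left with
      | one =>
        rw [map_one]
        exact hg 1 [] rfl (Nat.le_zero.1 (rlen_le []))
      | mul_simple_left x i ih => rw [map_mul, hπ, hstep, ih]
    exact Function.LeftInverse.injective this
  have hsurj : Function.Surjective π := by
    intro n
    obtain ⟨w, rfl⟩ := hgen n
    refine ⟨(w.map cs₀.simple).prod, ?_⟩
    rw [map_list_prod, List.map_map]
    exact congrArg List.prod (List.map_congr_left fun i _ => hπ i)
  exact ⟨cs₀.map (MulEquiv.ofBijective π ⟨hinjπ, hsurj⟩), fun i => hπ i⟩

include hinj hsq hgen hex in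
/-- A group generated by involutions with the exchange condition is a Coxeter system. -/
theorem exists_coxeterSystem :
    ∃ (M : CoxeterMatrix ι) (cs : CoxeterSystem M W), ∀ i, cs.simple i = f i :=
  ⟨_, exists_coxeterSystem_matrix hinj hsq hgen hex⟩

end Cfsg.Agent.BN.Exch
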